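import Mathlib
import Cfsg.Prelude.Def_Characters
import Cfsg.Prelude.Def_Blocks
import Cfsg.Prelude.Def_DegreeGraph
import Cfsg.Agent.Lib.Helper25.CharLinear

/-!
# Project SZC (S4775): the character degrees of the Suzuki groups

Definitions shared by all rows.  `SzcData G q r` is a bundle of elementary group-theoretic
hypotheses on a finite group `G` ("Suzuki-type data": a 2-transitive Borel subgroup `H = Q ⋊ K`
and two cyclic self-centralizing TI tori `A false`, `A true` with `|N : A| = 4`); the abstract core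
computes all irreducible character degrees of such a `G`.
-/

set_option autoImplicit false
open scoped ComplexConjugate

namespace Cfsg.Agent.Lib.Helper10.SZC

/-- order of the torus `A i`: `q + r + 1` for `i = false`, `q - r + 1` for `i = true` -/
def aN (q r : ℕ) (i : Bool) : ℕ := if i then q - r + 1 else q + r + 1

/-- the sign attached to the torus `A i` in the lattice argument -/
def sgn (i : Bool) : ℤ := if i then -1 else 1

/-- An abelian subgroup `A` with "normalizer" `N`: `A ⊴ N`, `|N : A| = 4`, `A` is a TI subgroup with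
respect to `N`, and `N ∖ A` acts fixed-point-freely on `A`. -/
structure Torus {G : Type*} [Group G] (A N : Subgroup G) : Prop where
  le : A ≤ N
  comm : ∀ a ∈ A, ∀ b ∈ A, a * b = b * a
  norm : ∀ n ∈ N, ∀ a ∈ A, n * a * n⁻¹ ∈ A
  ti : ∀ g : G, g ∉ N → ∀ a ∈ A, a ≠ 1 → g * a * g⁻¹ ∉ A
  free : ∀ n ∈ N, n ∉ A → ∀ a ∈ A, n * a = a * n → a = 1
  card : Nat.card N = 4 * Nat.card A

section
variable {G : Type*} [Group G] [Fintype G]

/-- `X = Ind_H^G 1 - 1` -/
noncomputable def Xf (H : Subgroup G) : G → ℂ :=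
  fun g => Cfsg.indFun H (fun _ => (1 : ℂ)) g - 1

/-- `phi A l = Ind_A^G (1 - l)` for a linear character `l` of `A` -/
noncomputable def phi (A : Subgroup G) (l : ↥A →* ℂˣ) : G → ℂ :=
  Cfsg.indFun A (fun a => 1 - ((l a : ℂˣ) : ℂ))

/-- `Psi = phi - 1 + X` -/
noncomputable def Psi (H A : Subgroup G) (l : ↥A →* ℂˣ) : G → ℂ :=
  fun g => phi A l g - 1 + Xf H g

/-- `χ` is cuspidal with respect to `Q`: it is orthogonal to `Ind_Q^G 1` -/
def Cusp (Q : Subgroup G) (χ : G → ℂ) : Prop :=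
  Cfsg.classInner χ (Cfsg.indFun Q (fun _ => (1 : ℂ))) = 0

open Classical in
/-- the sum of `f` over the non-identity elements of the subgroup `A` -/
noncomputable def sumNI (A : Subgroup G) (f : G → ℂ) : ℂ :=
  ∑ g : G, if g ∈ A ∧ g ≠ 1 then f g else 0

/-- the integer coefficient of the irreducible character `χ` in the class function `θ`
(meaningful for generalized characters, see row C1) -/
noncomputable def coef (θ : G → ℂ) (χ : Cfsg.IrrCharacter G) : ℤ :=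
  ⌊(Cfsg.classInner θ (χ : G → ℂ)).re⌋

end

/-- Suzuki-type data on a finite group `G` (parameters `q`, `r` with `r ^ 2 = 2 * q`). -/
structure SzcData (G : Type*) [Group G] [Fintype G] (q r : ℕ) where
  hq : 8 ≤ q
  hr : r ^ 2 = 2 * q
  card_G : Nat.card G = q ^ 2 * (q - 1) * (q ^ 2 + 1)
  H : Subgroup G
  Q : Subgroup G
  K : Subgroup G
  A : Bool → Subgroup G
  N : Bool → Subgroup G
  Q_le : Q ≤ H
  K_le : K ≤ H
  Q_norm : ∀ h ∈ H, ∀ x ∈ Q, h * x * h⁻¹ ∈ Q
  H_comm : ∀ h ∈ H, ∀ h' ∈ H, h * h' * h⁻¹ * h'⁻¹ ∈ Q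
  card_Q : Nat.card Q = q ^ 2
  card_H : Nat.card H = q ^ 2 * (q - 1)
  card_K : Nat.card K = q - 1
  Q_ti : ∀ g : G, g ∉ H → ∀ x ∈ Q, x ≠ 1 → g * x * g⁻¹ ∉ Q
  K_free : ∀ k ∈ K, k ≠ 1 → ∀ x ∈ Q, k * x = x * k → x = 1
  X_irr : Cfsg.IsIrrCharacter G (Xf H)
  ind_irr : ∀ μ : ↥H →* ℂˣ, (∀ u : ↥H, (u : G) ∈ Q → μ u = 1) → μ ≠ 1 →
    Cfsg.IsIrrCharacter G (Cfsg.indFun H (fun u => ((μ u : ℂˣ) : ℂ)))
  tor : ∀ i, Torus (A i) (N i)
  card_A : ∀ i, Nat.card (A i) = aN q r i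
  cover : ∀ g : G, g ≠ 1 → ∃ x : G, x * g * x⁻¹ ∈ Q ∨ x * g * x⁻¹ ∈ K ∨
    x * g * x⁻¹ ∈ A false ∨ x * g * x⁻¹ ∈ A true

section
variable {G : Type*} [Group G] [Fintype G] {q r : ℕ}

open Classical in
/-- the coefficient vectors `sgn i • coef (Psi l)`, `l ≠ 1` a linear character of the torus `A i` -/
noncomputable def Vset (D : SzcData G q r) (i : Bool) : Finset (Cfsg.IrrCharacter G → ℤ) :=
  letI : Fintype (↥(D.A i) →* ℂˣ) := Fintype.ofFinite _
  (Finset.univ.filter (fun l : ↥(D.A i) →* ℂˣ => l ≠ 1)).image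
    (fun l => fun χ => sgn i * coef (Psi D.H (D.A i) l) χ)

open Classical in
/-- all coefficient vectors -/
noncomputable def Vall (D : SzcData G q r) : Finset (Cfsg.IrrCharacter G → ℤ) :=
  Vset D false ∪ Vset D true

end

/-- sunflower shape: all vectors are `R + (± unit vector)` with a common `R` of norm 2 -/
def Shape1 {ι : Type*} [Fintype ι] (V : Finset (ι → ℤ)) : Prop :=
  ∃ (R : ι → ℤ) (pt : (ι → ℤ) → ι) (sg : (ι → ℤ) → ℤ),
    (∑ i, R i * R i = 2) ∧
    (∀ v ∈ V, (sg v = 1 ∨ sg v = -1) ∧ R (pt v) = 0 ∧ v (pt v) = sg v ∧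
      ∀ i, i ≠ pt v → v i = R i) ∧
    (∀ v ∈ V, ∀ w ∈ V, pt v = pt w → v = w)

/-- the exceptional shape: the four 3-subsets of a signed 4-set -/
def Shape2 {ι : Type*} (V : Finset (ι → ℤ)) : Prop :=
  ∃ (x : Fin 4 → ι) (e : Fin 4 → ℤ) (vv : Fin 4 → (ι → ℤ)),
    Function.Injective x ∧ (∀ k, e k = 1 ∨ e k = -1) ∧ Function.Injective vv ∧
    (∀ v, v ∈ V ↔ ∃ k, v = vv k) ∧
    (∀ k, vv k (x k) = 0) ∧ (∀ k j, j ≠ k → vv k (x j) = e j) ∧
    (∀ k i, (∀ j, i ≠ x j) → vv k i = 0)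

end Cfsg.Agent.Lib.Helper10.SZC
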